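import Cfsg.Agent.Lib.PFocalThree.Basic
import Cfsg.Agent.Lib.PushingUp2.Chain

/-!
# All translates commute when no member is quadratic

* `QuadAll c`: every element of `S` acts quadratically on the chief factors in `Q`
* `Fam.all_good_of_hard`: no failure at all if no member of the family has `QuadAll`

A failure at distance `0` gives `S = V_b Q_a` with `[Q_a, V_b] ≤ V_b`; a failure at distance `1` gives
`S = U Q_a` with `[Q_a, U, U] ≤ V_a`.
-/

set_option autoImplicit false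

namespace Cfsg.Agent.PFocalThree

open Subgroup
open PushingUp (Cfg Base cj_le_cj cj_one le_centralizer_cj_iff cj_eq_self_of_mem_normalizer)
open FFPair (cj mem_cj cj_cj)
open PU2 (Fam Good Crit gens ball HasSource)
open scoped commutatorElement

universe u v

variable {Γ : Type u} [Group Γ] [Finite Γ] {p : ℕ} [Fact p.Prime]

/-- Every element of `S` acts quadratically on the chief factors in `Q`. -/
def QuadAll (c : Cfg Γ) : Prop := ∀ u ∈ c.S, QuadOn c.G c.Q u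

theorem quadAll_of {c : Cfg Γ} (h : Base p c) {U : Subgroup Γ} (hU : U ≤ c.S) (hS : c.S ≤ U ⊔ c.Q)
    (hq : ∀ n ∈ c.Q, ∀ v ∈ U, ∀ w ∈ U, ⁅⁅n, v⁆, w⁆ ∈ c.V) : QuadAll c := by
  intro u hu
  obtain ⟨v, hv, r, hr, rfl⟩ :=
    (Coprime.mem_sup_iff_of_le_normalizer ((hU.trans h.SG).trans h.GQ)).mp (hS hu)
  refine quadOn_of (p := p) (h.pgroup.to_le h.QS) h.GQ (h.QS.trans h.SG) (h.SG (hU hv)) hr ?_
  intro A A' hA hA' hlt hAQ hmin n hn a ha b hb
  have haU : a ∈ U := zpowers_le.mpr hv ha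
  have hbU : b ∈ U := zpowers_le.mpr hv hb
  have hmemA : ∀ y ∈ c.G, ∀ x ∈ A, ⁅x, y⁆ ∈ A := fun y hy x hx =>
    Coprime.commutator_le_left_of_le_normalizer hA (commutator_mem_commutator hx hy)
  have hmemA' : ∀ y ∈ c.G, ∀ x ∈ A', ⁅x, y⁆ ∈ A' := fun y hy x hx =>
    Coprime.commutator_le_left_of_le_normalizer hA' (commutator_mem_commutator hx hy)
  have hAG : A ≤ c.G := (hAQ.trans h.QS).trans h.SG
  rcases hmin ((A ⊓ c.V) ⊔ A') (LocalStructure.le_normalizer_sup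
    (LocalStructure.le_normalizer_inf hA h.GV) hA') le_sup_right (sup_le inf_le_left hlt.le) with e | e
  · refine e.le (mem_sup_left ⟨hmemA b (h.SG (hU hbU)) _ (hmemA a (h.SG (hU haU)) n hn),
      hq n (hAQ hn) a haU b hbU⟩)
  · obtain ⟨x, hx, y, hy, rfl⟩ := (Coprime.mem_sup_iff_of_le_normalizer
      ((inf_le_left.trans hAG).trans hA')).mp (e.ge hn)
    have hz : ⁅x, a⁆ ∈ c.Zs := by
      rw [← commutatorElement_inv, commutatorElement_def]
      exact inv_mem (h.quad a (hU haU) x hx.2)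
    have hzb : ⁅⁅x, a⁆, b⁆ = 1 := commutatorElement_eq_one_iff_mul_comm.mpr
      (((h.Zs_eq.le hz).2 b (hU hbU)).symm)
    set w := x * ⁅y, a⁆ * x⁻¹
    have hw : w ∈ A' := (mem_normalizer_iff.mp (hA' (hAG hx.1)) _).mp (hmemA' a (h.SG (hU haU)) y hy)
    rw [show ⁅x * y, a⁆ = w * ⁅x, a⁆ by simp only [w, commutatorElement_def]; group,
      show ⁅w * ⁅x, a⁆, b⁆ = w * ⁅⁅x, a⁆, b⁆ * w⁻¹ * ⁅w, b⁆ by simp only [commutatorElement_def]; group,
      hzb, mul_one, mul_inv_cancel, one_mul]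
    exact hmemA' b (h.SG (hU hbU)) w hw

variable {ι : Type v} {C : ι → Cfg Γ} {Sg : Subgroup Γ}

theorem not_hard_zero (F : Fam p Sg C) (hg : Good C 0) {t : ℕ → ι} {e : ℕ → Γ} (hc : Crit C 0 t e)
    (he : e 0 = 1) : QuadAll (C (t 0)) := by
  have hb := F.base (t 1)
  have hcov := (hc.cover F hg he).1
  rw [he, cj_one] at hcov
  refine quadAll_of (F.base _) ((F.VS _).trans (F.sylow _).ge) ((F.sylow _).le.trans hcov.ge)
    fun n hn v hv w hw => ?_
  have hnG : n ∈ (C (t 1)).G := hb.SG ((F.sylow _).ge (F.QS _ hn))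
  have h1 : ⁅n, v⁆ ∈ (C (t 1)).V := by
    rw [commutatorElement_def]
    exact mul_mem ((mem_normalizer_iff.mp (hb.GV hnG) v).mp hv) (inv_mem hv)
  rw [commutatorElement_eq_one_iff_mul_comm.mpr ((F.abelian_V _ hw _ h1))]
  exact one_mem _

theorem not_hard_one (F : Fam p Sg C) (hg : Good C 1) {t : ℕ → ι} {e : ℕ → Γ} (hc : Crit C 1 t e)
    (he : e 0 = 1) : QuadAll (C (t 0)) := by
  have h0 := F.base (t 0)
  have hi := F.base (t 1)
  have hb := F.base (t 2)
  have hs : e 1 ∈ gens C (t 1) := by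
    have := hc.step 0 Nat.one_pos
    rwa [he, inv_one, one_mul] at this
  obtain ⟨hcov, -, hcov'⟩ := hc.cover F hg he
  have hUS : cj (e 1) (C (t 2)).V ≤ Sg := hc.right_le F hg he
  have hUQ : cj (e 1) (C (t 2)).V ≤ (C (t 1)).Q := F.cj_le_Q hs.1 (F.V_le_Q hg Nat.one_pos _ _)
  have hQiS : (C (t 1)).Q ≤ cj (e 1) Sg := by
    rw [← hi.conj_Q hs.1]
    exact cj_le_cj.mpr (F.QS _)
  have hVa : (C (t 0)).V ≤ normalizer (cj (e 1) (C (t 2)).Q : Set Γ) :=
    (hc.left_le F hg he).trans ((cj_le_cj.mpr (((F.sylow _).ge.trans hb.SG).trans hb.GQ)).trans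
      (PushingUp.cj_normalizer _ _).le)
  have hQb : cj (e 1) (C (t 2)).Q ≤ centralizer (cj (e 1) (C (t 2)).V : Set Γ) :=
    le_centralizer_cj_iff.mpr hb.QV
  refine quadAll_of h0 (hUS.trans (F.sylow _).ge) ((F.sylow _).le.trans hcov.ge)
    fun n hn v hv w hw => ?_
  have hvG : v ∈ (C (t 0)).G := h0.SG ((F.sylow _).ge (hUS hv))
  have hnG : n ∈ (C (t 1)).G := hi.SG ((F.sylow _).ge (F.QS _ hn))
  have hdi : ⁅n, v⁆ ∈ (C (t 1)).Q := by
    rw [commutatorElement_def]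
    exact mul_mem ((mem_normalizer_iff.mp (hi.GQ hnG) v).mp (hUQ hv)) (inv_mem (hUQ hv))
  obtain ⟨x, hx, q, hq, e'⟩ :=
    (Coprime.mem_sup_iff_of_le_normalizer hVa).mp (hcov'.ge (hQiS hdi))
  rw [← e', ← commutatorElement_inv]
  refine inv_mem ?_
  rw [show ⁅w, x * q⁆ = ⁅w, x⁆ * (x * ⁅w, q⁆ * x⁻¹) by simp only [commutatorElement_def]; group,
    show ⁅w, q⁆ = 1 from commutatorElement_eq_one_iff_mul_comm.mpr (hQb hq w hw), mul_one,
    mul_inv_cancel, mul_one, commutatorElement_def]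
  exact mul_mem ((mem_normalizer_iff.mp (h0.GV (h0.SG ((F.sylow _).ge (hUS hw)))) x).mp hx) (inv_mem hx)

/-- All translates commute if no member is quadratic. -/
theorem all_good_of_hard (F : Fam p Sg C) (hsrc : ∀ i, HasSource p (C i))
    (hhard : ∀ i, ¬ QuadAll (C i)) : ∀ k, Good C k := by
  by_contra hc
  push Not at hc
  obtain ⟨m, t, e, hg, hcr⟩ := PU2.exists_crit hc
  obtain ⟨e', he, hcr'⟩ := hcr.normalize
  rcases Nat.le_one_iff_eq_zero_or_eq_one.mp (PU2.crit_le_one F hsrc hg hcr) with rfl | rfl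
  · exact hhard _ (not_hard_zero F hg hcr' he)
  · exact hhard _ (not_hard_one F hg hcr' he)

end Cfsg.Agent.PFocalThree
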