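import Cfsg.Agent.Lib.PushingUp2.Gallery
import Cfsg.Agent.Lib.Coprime.Commutator
import Cfsg.Agent.Lib.PGroup.Basic
import Cfsg.Agent.Lib.LocalStructure.Basic

/-!
# Elements acting quadratically on the chief factors of a subgroup

* `QuadOn H R u`: `u` acts quadratically on all `H`-chief factors inside `R`
* `quadOn_map_iff`: transport along a monomorphism
* `commutator_le_of_chief`: a normal `p`-subgroup centralises every chief factor inside it
* `quadOn_of`: reduction of `v r`, `r ∈ R`, to `v`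
-/

set_option autoImplicit false

namespace Cfsg.Agent.PFocalThree

open Subgroup
open scoped commutatorElement

universe u v

variable {Γ : Type u} [Group Γ]

/-- `u` acts quadratically on all `H`-chief factors inside `R`. -/
def QuadOn (H R : Subgroup Γ) (u : Γ) : Prop :=
  ∀ A A' : Subgroup Γ, H ≤ normalizer (A : Set Γ) → H ≤ normalizer (A' : Set Γ) → A' < A → A ≤ R →
    (∀ K : Subgroup Γ, H ≤ normalizer (K : Set Γ) → A' ≤ K → K ≤ A → K = A' ∨ K = A) →
    ∀ n ∈ A, ∀ a ∈ zpowers u, ∀ b ∈ zpowers u, ⁅⁅n, a⁆, b⁆ ∈ A'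

theorem normalizer_map_iff {G : Type v} [Group G] {f : G →* Γ} (hf : Function.Injective f)
    {H K : Subgroup G} :
    H.map f ≤ normalizer (K.map f : Set Γ) ↔ H ≤ normalizer (K : Set G) := by
  refine ⟨fun h g hg => mem_normalizer_iff.mpr fun x => ?_, fun h => (map_mono h).trans (le_normalizer_map f)⟩
  have h1 := mem_normalizer_iff.mp (h (mem_map_of_mem f hg)) (f x)
  rwa [Subgroup.mem_map_iff_mem hf, ← map_inv, ← map_mul, ← map_mul, Subgroup.mem_map_iff_mem hf] at h1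

theorem quadOn_map_iff {G : Type v} [Group G] {f : G →* Γ} (hf : Function.Injective f)
    {H R : Subgroup G} {u : G} : QuadOn (H.map f) (R.map f) (f u) ↔ QuadOn H R u := by
  have hle : ∀ {Y Y' : Subgroup G}, Y.map f ≤ Y'.map f ↔ Y ≤ Y' := fun {_ _} =>
    map_le_map_iff_of_injective hf
  constructor
  · intro h A A' hA hA' hlt hAR hmin n hn a ha b hb
    have hzp : ∀ y ∈ zpowers u, f y ∈ zpowers (f u) := fun y hy => by
      rw [← MonoidHom.map_zpowers]; exact mem_map_of_mem f hy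
    refine (Subgroup.mem_map_iff_mem hf).mp ?_
    rw [map_commutatorElement, map_commutatorElement]
    refine h (A.map f) (A'.map f) ((normalizer_map_iff hf).mpr hA) ((normalizer_map_iff hf).mpr hA')
      (lt_of_le_not_ge (map_mono hlt.le) fun h' => hlt.not_ge (hle.mp h')) (map_mono hAR) ?_ _
      (mem_map_of_mem f hn) _ (hzp a ha) _ (hzp b hb)
    intro K hK hK1 hK2
    obtain ⟨K, rfl⟩ : ∃ K₀ : Subgroup G, K₀.map f = K :=
      ⟨K.comap f, map_comap_eq_self (hK2.trans (map_le_range f A))⟩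
    exact (hmin K ((normalizer_map_iff hf).mp hK) (hle.mp hK1) (hle.mp hK2)).imp
      (congrArg _) (congrArg _)
  · intro h A A' hA hA' hlt hAR hmin
    obtain ⟨A, rfl⟩ : ∃ A₀ : Subgroup G, A₀.map f = A :=
      ⟨A.comap f, map_comap_eq_self (hAR.trans (map_le_range f R))⟩
    obtain ⟨A', rfl⟩ : ∃ A₀ : Subgroup G, A₀.map f = A' :=
      ⟨A'.comap f, map_comap_eq_self ((hlt.le.trans hAR).trans (map_le_range f R))⟩
    rintro _ ⟨n, hn, rfl⟩ a ha b hb
    rw [← MonoidHom.map_zpowers] at ha hb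
    obtain ⟨a, ha', rfl⟩ := ha
    obtain ⟨b, hb', rfl⟩ := hb
    rw [← map_commutatorElement, ← map_commutatorElement]
    refine mem_map_of_mem f (h A A' ((normalizer_map_iff hf).mp hA) ((normalizer_map_iff hf).mp hA')
      (lt_of_le_not_ge (hle.mp hlt.le) fun h' => hlt.not_ge (map_mono h')) (hle.mp hAR)
      (fun K hK hK1 hK2 => ?_) n hn a ha' b hb')
    exact (hmin _ ((normalizer_map_iff hf).mpr hK) (map_mono hK1) (map_mono hK2)).imp
      (fun e => map_injective hf e) (fun e => map_injective hf e)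

variable [Finite Γ] {p : ℕ} [Fact p.Prime] {H R A A' : Subgroup Γ}

/-- A normal `p`-subgroup centralises every chief factor inside it. -/
theorem commutator_le_of_chief (hR : IsPGroup p R) (hHR : H ≤ normalizer (R : Set Γ)) (hRH : R ≤ H)
    (hA : H ≤ normalizer (A : Set Γ)) (hA' : H ≤ normalizer (A' : Set Γ)) (hlt : A' < A) (hAR : A ≤ R)
    (hmin : ∀ K : Subgroup Γ, H ≤ normalizer (K : Set Γ) → A' ≤ K → K ≤ A → K = A' ∨ K = A) :
    ⁅A, R⁆ ≤ A' := by
  have hAR' : ⁅A, R⁆ ≤ A := Coprime.commutator_le_left_of_le_normalizer (hRH.trans hA)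
  rcases hmin (⁅A, R⁆ ⊔ A') (LocalStructure.le_normalizer_sup
    (LocalStructure.le_normalizer_commutator hA hHR) hA') le_sup_right (sup_le hAR' hlt.le) with e | e
  · exact le_sup_left.trans e.le
  exfalso
  set a := A.subgroupOf R
  set a' := A'.subgroupOf R
  have : a.Normal := (normal_subgroupOf_iff_le_normalizer hAR).mpr (hRH.trans hA)
  have : a'.Normal := (normal_subgroupOf_iff_le_normalizer (hlt.le.trans hAR)).mpr (hRH.trans hA')
  set π := QuotientGroup.mk' a'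
  have : (a.map π).Normal := Normal.map ‹_› π (QuotientGroup.mk'_surjective _)
  have hne : a.map π ≠ ⊥ := by
    rw [Ne, Subgroup.map_eq_bot_iff, QuotientGroup.ker_mk']
    exact fun h => hlt.not_ge fun x hx => h (show (⟨x, hAR hx⟩ : ↥R) ∈ a from hx)
  refine (PGroup.commutator_top_lt (hR.to_quotient a') (a.map π) hne).not_ge ?_
  rw [← map_top_of_surjective π (QuotientGroup.mk'_surjective _), ← Subgroup.map_commutator,
    Subgroup.map_le_map_iff, QuotientGroup.ker_mk']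
  intro x hx
  refine (Subgroup.mem_map_iff_mem R.subtype_injective).mp ?_
  rw [Subgroup.map_sup, Subgroup.map_commutator, map_subgroupOf_eq_of_le hAR,
    map_subgroupOf_eq_of_le (hlt.le.trans hAR), ← MonoidHom.range_eq_map, range_subtype, e]
  exact hx

/-- Reduction of `v r`, `r ∈ R`, to `v`. -/
theorem quadOn_of (hR : IsPGroup p R) (hHR : H ≤ normalizer (R : Set Γ)) (hRH : R ≤ H) {v r : Γ}
    (hv : v ∈ H) (hr : r ∈ R)
    (h : ∀ A A' : Subgroup Γ, H ≤ normalizer (A : Set Γ) → H ≤ normalizer (A' : Set Γ) → A' < A →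
      A ≤ R → (∀ K : Subgroup Γ, H ≤ normalizer (K : Set Γ) → A' ≤ K → K ≤ A → K = A' ∨ K = A) →
      ∀ n ∈ A, ∀ a ∈ zpowers v, ∀ b ∈ zpowers v, ⁅⁅n, a⁆, b⁆ ∈ A') :
    QuadOn H R (v * r) := by
  intro A A' hA hA' hlt hAR hmin n hn a ha b hb
  have hc := commutator_le_of_chief hR hHR hRH hA hA' hlt hAR hmin
  have hsplit : ∀ a ∈ zpowers (v * r), ∃ a₀ ∈ zpowers v, ∃ s ∈ R, a = a₀ * s := by
    have key : zpowers (v * r) ≤ zpowers v ⊔ R :=
      zpowers_le.mpr (mul_mem (mem_sup_left (mem_zpowers v)) (mem_sup_right hr))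
    intro a ha
    obtain ⟨a₀, h₀, s, hs, e⟩ := (Coprime.mem_sup_iff_of_le_normalizer
      ((zpowers_le.mpr hv).trans hHR)).mp (key ha)
    exact ⟨a₀, h₀, s, hs, e.symm⟩
  have hone : ∀ x ∈ A, ∀ a₀ ∈ zpowers v, ∀ s ∈ R,
      ∃ w ∈ A', ⁅x, a₀ * s⁆ = ⁅x, a₀⁆ * w := by
    intro x hx a₀ h₀ s hs
    refine ⟨a₀ * ⁅x, s⁆ * a₀⁻¹, (mem_normalizer_iff.mp (hA' (zpowers_le.mpr hv h₀)) _).mp
      (hc (commutator_mem_commutator hx hs)), ?_⟩
    simp only [commutatorElement_def]; group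
  obtain ⟨a₀, ha₀, s, hs, rfl⟩ := hsplit a ha
  obtain ⟨b₀, hb₀, t, ht, rfl⟩ := hsplit b hb
  have hmemA : ∀ y ∈ H, ∀ x ∈ A, ⁅x, y⁆ ∈ A := fun y hy x hx =>
    Coprime.commutator_le_left_of_le_normalizer hA (commutator_mem_commutator hx hy)
  have hmemA' : ∀ y ∈ H, ∀ x ∈ A', ⁅x, y⁆ ∈ A' := fun y hy x hx =>
    Coprime.commutator_le_left_of_le_normalizer hA' (commutator_mem_commutator hx hy)
  obtain ⟨w, hw, e⟩ := hone n hn a₀ ha₀ s hs
  have hy := hmemA a₀ (zpowers_le.mpr hv ha₀) n hn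
  have hbH : b₀ * t ∈ H := mul_mem (zpowers_le.mpr hv hb₀) (hRH ht)
  obtain ⟨w', hw', e'⟩ := hone ⁅n, a₀⁆ hy b₀ hb₀ t ht
  rw [e, show ⁅⁅n, a₀⁆ * w, b₀ * t⁆ =
    ⁅n, a₀⁆ * ⁅w, b₀ * t⁆ * ⁅n, a₀⁆⁻¹ * ⁅⁅n, a₀⁆, b₀ * t⁆ by simp only [commutatorElement_def]; group, e']
  exact mul_mem ((mem_normalizer_iff.mp (hA' ((hAR.trans hRH) hy)) _).mp (hmemA' _ hbH w hw))
    (mul_mem (h A A' hA hA' hlt hAR hmin n hn a₀ ha₀ b₀ hb₀) hw')

end Cfsg.Agent.PFocalThree
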