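import Cfsg.Agent.Lib.PFocalThree.Basic
import Cfsg.Agent.Lib.PFocal.RankOne
import Cfsg.Agent.Lib.PushingUp.CentralProduct
import Cfsg.Agent.Lib.PushingUp.Main

/-!
# Descent to the centraliser of `Z(J(P))`

`Hard p P`: some element of `P` is not quadratic on some chief factor in `O_p(G)`.

* `exists_over_centralizer`: if `Z(P)` is not normal, `Hard p P` holds and `T = C_P(Z(J(P)))` is not normal, some
  subgroup over `T` generating with `P` has all these properties with respect to `T`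
-/

set_option autoImplicit false

namespace Cfsg.Agent.PFocalThree

open Subgroup PushingUp
open scoped commutatorElement MatrixGroups

universe u

variable {G : Type u} [Group G] [Finite G] {p : ℕ} [Fact p.Prime]

/-- Some element of `P` is not quadratic on some chief factor in `O_p(G)`. -/
def Hard (p : ℕ) {G : Type u} [Group G] (P : Subgroup G) : Prop :=
  ¬ ∀ u ∈ P, QuadOn (⊤ : Subgroup G) (Cfsg.pCore p G) u

/-- Quadratic action descends along `G = H R`. -/
theorem quadOn_ascend {R R₀ R₁ H : Subgroup G} [hR : R.Normal] [hR₀ : R₀.Normal] (hRp : IsPGroup p R)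
    (hHR : H ⊔ R = ⊤) (hR₁ : R₀ ≤ R₁) {v r : G} (hr : r ∈ R)
    (hv₀ : ∀ n ∈ R, ∀ a ∈ zpowers v, ⁅n, a⁆ ∈ R₀) (hv : QuadOn H R₁ v) :
    QuadOn ⊤ R (v * r) := by
  have hnR : (⊤ : Subgroup G) ≤ normalizer (R : Set G) := (normalizer_eq_top_iff.mpr hR).ge
  have hn₀ : (⊤ : Subgroup G) ≤ normalizer (R₀ : Set G) := (normalizer_eq_top_iff.mpr hR₀).ge
  refine quadOn_of (p := p) hRp hnR le_top (mem_top v) hr ?_
  intro A A' hA hA' hlt hAR hmin n hn a ha b hb
  have hc := commutator_le_of_chief (p := p) hRp hnR le_top hA hA' hlt hAR hmin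
  have hmemA' : ∀ y, ∀ x ∈ A', ⁅x, y⁆ ∈ A' := fun y x hx =>
    Coprime.commutator_le_left_of_le_normalizer hA' (commutator_mem_commutator hx (mem_top y))
  have hmemA : ∀ y, ∀ x ∈ A, ⁅x, y⁆ ∈ A := fun y x hx =>
    Coprime.commutator_le_left_of_le_normalizer hA (commutator_mem_commutator hx (mem_top y))
  rcases hmin ((A ⊓ R₀) ⊔ A') (LocalStructure.le_normalizer_sup
    (LocalStructure.le_normalizer_inf hA hn₀) hA') le_sup_right (sup_le inf_le_left hlt.le) with e | e
  · exact hmemA' b _ (e.le (mem_sup_left ⟨hmemA a n hn, hv₀ n (hAR hn) a ha⟩))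
  have hA'n : A ≤ normalizer (A' : Set G) := le_top.trans hA'
  obtain ⟨x, hx, y, hy, rfl⟩ := (Coprime.mem_sup_iff_of_le_normalizer
    (inf_le_left.trans hA'n)).mp (e.ge hn)
  have hlt' : A' ⊓ R₀ < A ⊓ R₀ := lt_of_le_not_ge (inf_le_inf_right _ hlt.le) fun h =>
    hlt.not_ge (e.ge.trans (sup_le (h.trans inf_le_left) le_rfl))
  have key : ⁅⁅x, a⁆, b⁆ ∈ A' := by
    refine (hv (A ⊓ R₀) (A' ⊓ R₀) (LocalStructure.le_normalizer_inf (le_top.trans hA) (le_top.trans hn₀))
      (LocalStructure.le_normalizer_inf (le_top.trans hA') (le_top.trans hn₀)) hlt'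
      (inf_le_right.trans hR₁) (fun K hK hK1 hK2 => ?_) x hx a ha b hb).1
    have hRK : R ≤ normalizer (K : Set G) := by
      have key : ∀ s ∈ R, ∀ k ∈ K, s * k * s⁻¹ ∈ K := fun s hs k hk => by
        have h1 : ⁅k, s⁆ ∈ A' ⊓ R₀ := ⟨hc (commutator_mem_commutator (hK2 hk).1 hs),
          Coprime.commutator_le_left_of_le_normalizer hn₀ (commutator_mem_commutator (hK2 hk).2 (mem_top s))⟩
        rw [show s * k * s⁻¹ = ⁅k, s⁆⁻¹ * k by simp only [commutatorElement_def]; group]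
        exact mul_mem (inv_mem (hK1 h1)) hk
      refine fun s hs => mem_normalizer_iff.mpr fun k => ⟨key s hs k, fun hk => ?_⟩
      have := key s⁻¹ (inv_mem hs) _ hk
      rwa [show s⁻¹ * (s * k * s⁻¹) * s⁻¹⁻¹ = k by group] at this
    have hKn : (⊤ : Subgroup G) ≤ normalizer (K : Set G) := hHR.ge.trans (sup_le hK hRK)
    rcases hmin (K ⊔ A') (LocalStructure.le_normalizer_sup hKn hA') le_sup_right
      (sup_le (hK2.trans inf_le_left) hlt.le) with e' | e'
    · exact Or.inl (le_antisymm (le_inf (le_sup_left.trans e'.le) (hK2.trans inf_le_right)) hK1)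
    · refine Or.inr (le_antisymm hK2 fun z hz => ?_)
      obtain ⟨k, hk, w, hw, rfl⟩ := (Coprime.mem_sup_iff_of_le_normalizer
        ((hK2.trans inf_le_left).trans hA'n)).mp (e'.ge hz.1)
      refine mul_mem hk (hK1 ⟨hw, ?_⟩)
      have := R₀.mul_mem (R₀.inv_mem (hK2 hk).2) hz.2
      rwa [inv_mul_cancel_left] at this
  set w := x * ⁅y, a⁆ * x⁻¹
  have hw : w ∈ A' := (mem_normalizer_iff.mp (hA'n hx.1) _).mp (hmemA' a y hy)
  rw [show ⁅x * y, a⁆ = w * ⁅x, a⁆ by simp only [w, commutatorElement_def]; group,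
    show ⁅w * ⁅x, a⁆, b⁆ = w * ⁅⁅x, a⁆, b⁆ * w⁻¹ * ⁅w, b⁆ by simp only [commutatorElement_def]; group]
  exact mul_mem (mul_mem (mul_mem hw key) (inv_mem hw)) (hmemA' b w hw)

/-- A rank-one group maps onto `PSL₂` with kernel in `M`. -/
theorem exists_psl {S : Sylow p G} {M : Subgroup G} (h : Hyp p S M)
    (hV : centralizer (vQ p G : Set G) ≤ M) (hA : Act p S M (vQ p G)) :
    ∃ (F : Type) (_ : Field F) (_ : Fintype F) (n : ℕ),
      Fintype.card F = p ^ n ∧ ∃ θ : G →* Matrix.ProjectiveSpecialLinearGroup (Fin 2) F,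
        Function.Surjective θ ∧ θ.ker ≤ M ∧ (S : Subgroup G).map θ = uniP F ∧
        (Cfsg.pCore p G).map θ = ⊥ := by
  obtain ⟨F, hF, hFt, hcard, -, ⟨e⟩⟩ := hA.layer
  rw [h.inf_centralizer_vQ hV] at hcard
  obtain ⟨n, hn⟩ : ∃ n, Fintype.card F = p ^ n := by
    obtain ⟨i, hi⟩ := IsPGroup.iff_card.mp S.2
    have hd : Fintype.card F ∣ p ^ i := hi ▸ Dvd.intro _ hcard
    obtain ⟨k, -, hk⟩ := (Nat.dvd_prime_pow Fact.out).mp hd
    exact ⟨k, hk⟩
  let π : SL(2, F) →* Matrix.ProjectiveSpecialLinearGroup (Fin 2) F := QuotientGroup.mk' _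
  obtain ⟨θ, hθ, -, hSθ⟩ := exists_adapted hn S
    (π.comp (e.toMonoidHom.comp (QuotientGroup.mk' _)))
    ((QuotientGroup.mk'_surjective _).comp (e.surjective.comp (QuotientGroup.mk'_surjective _)))
  refine ⟨F, hF, hFt, n, hn, θ, hθ, ?_, hSθ, ?_⟩
  · by_contra hc
    have h1 := congrArg (Subgroup.map θ) (h.sup_eq_top hc)
    rw [Subgroup.map_sup, (Subgroup.map_eq_bot_iff θ.ker).mpr le_rfl, bot_sup_eq, hSθ,
      map_top_of_surjective θ hθ] at h1
    exact not_normal_uniP (F := F) (h1 ▸ inferInstance)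
  · have hn' : ((Cfsg.pCore p G).map θ).Normal := PCore.pCore_normal.map θ hθ
    rcases uniP_eq_bot_or (hSθ ▸ map_mono (PCore.pCore_le_sylow S))
      (le_top.trans (normalizer_eq_top_iff.mpr hn').ge) with h1 | h1
    · exact h1
    · exact absurd (h1 ▸ hn') not_normal_uniP

/-- The group over `C_P(Z(J(P)))`. -/
theorem exists_over_centralizer {P : Sylow p G} {M : Subgroup G} (h : Hyp p P M)
    (hZ : ¬ ((P : Subgroup G) ⊓ centralizer ((P : Subgroup G) : Set G)).Normal)
    (hard : Hard p (P : Subgroup G)) {T : Subgroup G}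
    (hT : (P : Subgroup G) ⊓ centralizer (centerThompsonAOf (P : Subgroup G) : Set G) = T)
    (hTn : ¬ T.Normal) :
    ∃ (E : Subgroup G) (P₁ : Sylow p ↥E) (M₁ : Subgroup ↥E), T ≤ E ∧ E ⊔ (P : Subgroup G) = ⊤ ∧
      (P₁ : Subgroup ↥E) = T.subgroupOf E ∧ Hyp p P₁ M₁ ∧
      ¬ ((P₁ : Subgroup ↥E) ⊓ centralizer ((P₁ : Subgroup ↥E) : Set ↥E)).Normal ∧
      Hard p (P₁ : Subgroup ↥E) := by
  have hV : centralizer (vQ p G : Set G) ≤ M := by
    by_contra hc
    exact hZ (normal_of_le_center (h.mem_center_of_not_le hc))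
  have hJ : ¬ thompsonSubgroupAOf (P : Subgroup G) ≤ Cfsg.pCore p G := fun hle =>
    hTn (hT ▸ (h.of_thompson_le hle).resolve_left fun hz => hZ (normal_of_le_center hz))
  have m := h.main hV hJ
  set R := Cfsg.pCore p G
  have hRP : R ≤ (P : Subgroup G) := PCore.pCore_le_sylow P
  have hRn : (⊤ : Subgroup G) ≤ normalizer (R : Set G) := (normalizer_eq_top_iff.mpr PCore.pCore_normal).ge
  have hTP : T ≤ (P : Subgroup G) := hT ▸ inf_le_left
  have hJT : thompsonSubgroupAOf (P : Subgroup G) ≤ T := hT ▸ le_inf (PGroup.thompsonSubgroupAOf_le _)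
    (le_centralizer_iff.mp inf_le_right)
  have hPT : (P : Subgroup G) = T ⊔ R :=
    le_antisymm (m.sup_pCore.ge.trans (sup_le_sup_right hJT _)) (sup_le hTP hRP)
  have hTR : ¬ T ≤ R := fun hle => hJ (hJT.trans hle)
  have hPn : (P : Subgroup G) ≤ normalizer (T : Set G) := by
    rw [← hT]
    exact LocalStructure.le_normalizer_inf Subgroup.le_normalizer
      (LocalStructure.le_normalizer_centralizer m.le_normalizer)
  have hNT : normalizer (T : Set G) ≤ M := h.uniq _ hPn fun e =>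
    hTR (PCore.le_pCore (hN := normalizer_eq_top_iff.mp e) (P.2.to_le hTP))
  set nc := normalClosure (T : Set G)
  have hTnc : T ≤ nc := le_normalClosure
  obtain ⟨P₀, hP₀⟩ := h.thompson_centralizer_sylow hZ hT
  have hTi : ¬ p ∣ T.relIndex nc := by
    have := P₀.not_dvd_index
    rwa [hP₀] at this
  have hncM : ¬ nc ≤ M := fun hle =>
    hTR ((le_inf hTP hTnc).trans (h.inf_le_pCore hle))
  -- `R ⊓ nc ≤ T`
  set R₀ := R ⊓ nc with hR₀def
  have hR₀n : R₀.Normal := inferInstance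
  have hR₀T : R₀ ≤ T := by
    intro x hx
    have hp0 : IsPGroup p (T.subgroupOf nc : Subgroup ↥nc) := hP₀ ▸ P₀.2
    have hle : R₀.subgroupOf nc ≤ (P₀ : Subgroup ↥nc) := by
      refine (PCore.le_pCore (p := p) (hN := inferInstance) ?_).trans (PCore.pCore_le_sylow P₀)
      exact (PCore.isPGroup_pCore.to_le inf_le_left).comap_of_injective _ nc.subtype_injective
    rw [hP₀] at hle
    exact hle (show (⟨x, hx.2⟩ : ↥nc) ∈ R₀.subgroupOf nc from hx)
  have hCR : nc ⊓ centralizer (R₀ : Set G) ≤ R₀ := by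
    refine le_inf (PCore.le_pCore (p := p) (hN := inferInstance) ?_) inf_le_left
    refine isPGroup_of_coprime fun x hx hxp => ?_
    have hfix : ∀ r ∈ R, x * r = r * x := by
      intro r hr
      have hc : x * r * x⁻¹ * r⁻¹ ∈ R₀ := by
        refine ⟨R.mul_mem (PCore.pCore_normal.conj_mem r hr x) (R.inv_mem hr), ?_⟩
        rw [show x * r * x⁻¹ * r⁻¹ = x * (r * x⁻¹ * r⁻¹) by group]
        exact mul_mem hx.1 (normalClosure_normal.conj_mem _ (inv_mem hx.1) r)
      obtain ⟨k, hk⟩ := IsPGroup.iff_orderOf.mp (PCore.isPGroup_pCore.to_le inf_le_left) ⟨_, hc⟩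
      rw [Subgroup.orderOf_mk] at hk
      exact commute_of_translate' hxp (k := k) (by rw [← hk]; exact pow_orderOf_eq_one _)
        (by group) ((hx.2 _ hc).symm)
    obtain ⟨k, hk⟩ := IsPGroup.iff_orderOf.mp PCore.isPGroup_pCore ⟨_, h.cent fun r hr => (hfix r hr).symm⟩
    rw [Subgroup.orderOf_mk] at hk
    exact orderOf_eq_one_iff.mp (Nat.Coprime.eq_one_of_dvd (hxp.pow_right k) hk.dvd)
  obtain ⟨A₁, hA₁, hne⟩ : ∃ A, PGroup.IsMaxAb (P : Subgroup G) A ∧ ¬ A ≤ R := by
    by_contra hc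
    push Not at hc
    exact hJ (by rw [PGroup.thompsonSubgroupAOf_eq]; exact sSup_le hc)
  have hA : Act p P M (vQ p G) := h.act hV hA₁ hne
  obtain ⟨F, _, _, n, hn, θ, hθ, hker, hPθ, hRθ⟩ := exists_psl h hV hA
  have hcover : nc.map θ = ⊤ := by
    have h1 := congrArg (Subgroup.map θ) (h.sup_eq_top hncM)
    rw [Subgroup.map_sup, map_top_of_surjective θ hθ] at h1
    refine top_le_iff.mp (h1.ge.trans (sup_le le_rfl ?_))
    rw [hPT, Subgroup.map_sup, hRθ, sup_bot_eq]
    exact map_mono hTnc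
  obtain ⟨E, hE, hTE, hEM, -, P₁, M₁, hP₁, hyp₁, -⟩ := PFocal.exists_minimal_over hn hncM hTnc
    (P.2.to_le hTP) hTi (hTP.trans h.SM) hNT (inf_le_left : nc ⊓ θ.ker ≤ nc)
    (LocalStructure.le_normalizer_inf Subgroup.le_normalizer
      (le_top.trans (normalizer_eq_top_iff.mpr θ.normal_ker).ge))
    (inf_le_right.trans hker) hR₀T (le_top.trans (normalizer_eq_top_iff.mpr hR₀n).ge) hCR
    (θ.comp nc.subtype) (fun y => by
      obtain ⟨x, hx, rfl⟩ : y ∈ nc.map θ := hcover ▸ mem_top y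
      exact ⟨⟨x, hx⟩, rfl⟩)
    (by ext x; simp [MonoidHom.mem_ker, mem_subgroupOf])
  have htop : E ⊔ (P : Subgroup G) = ⊤ := h.sup_eq_top hEM
  have hER : E ⊔ R = ⊤ := top_le_iff.mp (htop.ge.trans
    (sup_le le_sup_left (hPT.le.trans (sup_le (hTE.trans le_sup_left) le_sup_right))))
  have hmap : (P₁ : Subgroup ↥E).map E.subtype = T := by rw [hP₁, map_subgroupOf_eq_of_le hTE]
  refine ⟨E, P₁, M₁, hTE, htop, hP₁, hyp₁, fun hn₁ => hZ (normal_of_le_center fun z hz => ?_),
    fun hq => hard fun u hu => ?_⟩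
  · have hzT : z ∈ T := hT ▸ ⟨hz.1, fun w hw => hz.2 w
      (PGroup.thompsonSubgroupAOf_le _ (inf_le_left (b := centralizer _) hw))⟩
    have h1 := hyp₁.center_of_normal hn₁ (show (⟨z, hTE hzT⟩ : ↥E) ∈
        (P₁ : Subgroup ↥E) ⊓ centralizer ((P₁ : Subgroup ↥E) : Set ↥E) from by
      rw [hP₁]
      exact ⟨hzT, fun s hs => Subtype.ext (hz.2 s (hTP hs))⟩)
    have hle : E ⊔ (P : Subgroup G) ≤ centralizer ({z} : Set G) := by
      refine sup_le (fun g hg => ?_) fun s hs => ?_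
      · rw [mem_centralizer_iff]; rintro _ rfl
        exact (congrArg Subtype.val (Subgroup.mem_center_iff.mp h1 ⟨g, hg⟩)).symm
      · rw [mem_centralizer_iff]; rintro _ rfl
        exact (hz.2 s hs).symm
    exact Subgroup.mem_center_iff.mpr fun g => ((hle (htop.ge (mem_top g))) z rfl).symm
  · obtain ⟨v, hv, r, hr, rfl⟩ := (Coprime.mem_sup_iff_of_le_normalizer (le_top.trans hRn)).mp
      (hPT.le hu)
    have hR₁ : R₀ ≤ (Cfsg.pCore p ↥E).map E.subtype := by
      intro x hx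
      refine ⟨⟨x, hTE (hR₀T hx)⟩, ?_, rfl⟩
      exact (PCore.le_pCore (p := p) (hN := inferInstance)
        ((PCore.isPGroup_pCore.to_le inf_le_left).comap_of_injective _ E.subtype_injective) :
          R₀.subgroupOf E ≤ _) hx
    refine quadOn_ascend (p := p) (R := R) (R₀ := R₀) (H := E) PCore.isPGroup_pCore hER hR₁
      hr (fun n hn a ha => ⟨?_, ?_⟩) ?_
    · exact Coprime.commutator_le_left_of_le_normalizer hRn (commutator_mem_commutator hn (mem_top a))
    · have hanc : a ∈ nc := hTnc (zpowers_le.mpr hv ha)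
      show ⁅n, a⁆ ∈ nc
      rw [commutatorElement_def]
      exact mul_mem (normalClosure_normal.conj_mem a hanc n) (inv_mem hanc)
    · have h1 := (quadOn_map_iff E.subtype_injective).mpr
        (hq ⟨v, hTE hv⟩ (by rw [hP₁]; exact hv))
      rwa [← MonoidHom.range_eq_map, range_subtype] at h1

end Cfsg.Agent.PFocalThree
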