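import Cfsg.Agent.Lib.PFocalThree.K0
import Cfsg.Prelude.Def_ConjugacyFunctors
import Cfsg.Agent.Lib.BaumannBlock.Basic

/-!
# The two functors

* `univ p B`: generated by the characteristic subgroups of `B` normal in every hard rank-one group over `B`
* `bfun p Q`: `univ` of `B(Q)`, seen in `Q`
* `pair p`: the family of `Z(Q)` and `bfun p Q`
-/

set_option autoImplicit false
set_option linter.unusedSectionVars false

namespace Cfsg.Agent.PFocalThree

open Subgroup
open PU2 (Emb)

universe u

variable {p : ℕ}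

/-- The characteristic subgroups normal in every hard rank-one group over `B`. -/
def univSet (p : ℕ) (B : Type u) [Group B] : Set (Subgroup B) :=
  {K | K.Characteristic ∧
    ∀ E : Emb p (Subgroup.center B), Hard p (E.P : Subgroup E.G) → (K.map E.τ).Normal}

/-- Their join. -/
def univ (p : ℕ) (B : Type u) [Group B] : Subgroup B := sSup (univSet p B)

variable {B B' : Type u} [Group B] [Group B']

theorem map_mem_univSet (e : B ≃* B') {K : Subgroup B} (hK : K ∈ univSet p B) :
    K.map e.toMonoidHom ∈ univSet p B' := by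
  refine ⟨characteristic_iff_map_eq.mpr fun φ => ?_, fun E hard => ?_⟩
  · have h1 := characteristic_iff_map_eq.mp hK.1 ((e.trans φ).trans e.symm)
    conv_rhs => rw [← h1]
    rw [Subgroup.map_map, Subgroup.map_map]
    congr 1
    ext x; simp
  · have hc : (Subgroup.center B).map e.toMonoidHom = Subgroup.center B' := by
      ext x
      rw [Subgroup.mem_center_iff]
      refine ⟨?_, fun h => ⟨e.symm x, Subgroup.mem_center_iff.mpr fun g => e.injective ?_, by simp⟩⟩
      · rintro ⟨y, hy, rfl⟩ g
        obtain ⟨g, rfl⟩ := e.surjective g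
        show e g * e y = e y * e g
        rw [← map_mul, ← map_mul, Subgroup.mem_center_iff.mp hy g]
      · rw [map_mul, map_mul, MulEquiv.apply_symm_apply, h]
    rw [Subgroup.map_map]
    exact hK.2
      { G := E.G
        τ := E.τ.comp e.toMonoidHom
        inj := E.inj.comp e.injective
        P := E.P
        eP := by
          rw [E.eP, MonoidHom.range_eq_map, MonoidHom.range_eq_map, ← Subgroup.map_map,
            map_top_of_surjective e.toMonoidHom e.surjective]
        M := E.M
        hyp := E.hyp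
        moved := by rw [← Subgroup.map_map, hc]; exact E.moved } hard

theorem map_univ (e : B ≃* B') : (univ p B).map e.toMonoidHom = univ p B' := by
  refine le_antisymm ?_ (sSup_le fun K hK => ?_)
  · rw [univ, Subgroup.map_le_iff_le_comap]
    exact sSup_le fun K hK => Subgroup.map_le_iff_le_comap.mp (le_sSup (map_mem_univSet e hK))
  · refine le_trans ?_ (map_mono (le_sSup (map_mem_univSet e.symm hK)))
    rw [Subgroup.map_map]
    intro x hx
    exact ⟨x, hx, by simp⟩

theorem univ_characteristic : (univ p B).Characteristic :=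
  characteristic_iff_map_eq.mpr fun φ => map_univ φ

theorem univ_ne_bot [Fact p.Prime] [Finite B] [Nontrivial B] (hB : IsPGroup p B) : univ p B ≠ ⊥ := by
  obtain ⟨K, hne, hc, hn⟩ := exists_universal_hard (p := p) (Nat.card B) B le_rfl hB
  exact fun e => hne (le_bot_iff.mp (e ▸ le_sSup (show K ∈ univSet p B from ⟨hc, hn⟩)))

theorem univ_normal (E : Emb p (Subgroup.center B)) (hard : Hard p (E.P : Subgroup E.G)) :
    ((univ p B).map E.τ).Normal := by
  have : ∀ K : ↥(univSet p B), ((K : Subgroup B).map E.τ).Normal := fun K => K.2.2 E hard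
  rw [univ, sSup_eq_iSup', Subgroup.map_iSup]
  exact Subgroup.iSup_normal _

/-- `univ` of `B(Q)`, seen in `Q`. -/
def bfun (p : ℕ) : ∀ (Q : Type u) [Group Q], Subgroup Q := fun Q _ =>
  (univ p ↥(Cfsg.baumannSubgroupOf p (⊤ : Subgroup Q))).map (Cfsg.baumannSubgroupOf p (⊤ : Subgroup Q)).subtype

/-- The centre. -/
def cfun : ∀ (Q : Type u) [Group Q], Subgroup Q := fun Q _ => Subgroup.center Q

theorem map_bfun {Q R : Type u} [Group Q] [Group R] (φ : Q ≃* R) :
    (bfun p Q).map φ.toMonoidHom = bfun p R := by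
  have hB : (Cfsg.baumannSubgroupOf p (⊤ : Subgroup Q)).map φ.toMonoidHom =
      Cfsg.baumannSubgroupOf p (⊤ : Subgroup R) := by
    rw [PFocal.baumann_map_injective φ.injective, map_top_of_surjective φ.toMonoidHom φ.surjective]
  let e := (φ.subgroupMap (Cfsg.baumannSubgroupOf p (⊤ : Subgroup Q))).trans (MulEquiv.subgroupCongr hB)
  rw [bfun, bfun, ← map_univ (p := p) e, Subgroup.map_map, Subgroup.map_map]
  rfl

theorem bfun_isCharPFunctor [Fact p.Prime] : Cfsg.IsCharPFunctor.{u} p (bfun p) := by
  refine ⟨fun Q _ _ hQ _ => ?_, fun Q R _ _ _ _ φ => map_bfun φ⟩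
  rw [bfun, Ne, map_eq_bot_iff_of_injective _ (Subgroup.subtype_injective _)]
  have := hQ.center_nontrivial
  have hle : Subgroup.center Q ≤ Cfsg.baumannSubgroupOf p (⊤ : Subgroup Q) :=
    le_inf le_top (Subgroup.center_le_centralizer _)
  have : Nontrivial ↥(Cfsg.baumannSubgroupOf p (⊤ : Subgroup Q)) := (Subgroup.nontrivial_iff_ne_bot _).mpr
    fun e => (Subgroup.nontrivial_iff_ne_bot _).mp this (le_bot_iff.mp (e ▸ hle))
  exact univ_ne_bot (hQ.to_subgroup _)

theorem cfun_isCharPFunctor [Fact p.Prime] : Cfsg.IsCharPFunctor.{u} p cfun := by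
  refine ⟨fun Q _ _ hQ _ => ?_, fun Q R _ _ _ _ φ => ?_⟩
  · exact (Subgroup.nontrivial_iff_ne_bot _).mp hQ.center_nontrivial
  · show (Subgroup.center Q).map φ.toMonoidHom = Subgroup.center R
    ext x
    rw [Subgroup.mem_center_iff]
    refine ⟨?_, fun h => ⟨φ.symm x, Subgroup.mem_center_iff.mpr fun g => φ.injective ?_, by simp⟩⟩
    · rintro ⟨y, hy, rfl⟩ g
      obtain ⟨g, rfl⟩ := φ.surjective g
      show φ g * φ y = φ y * φ g
      rw [← map_mul, ← map_mul, Subgroup.mem_center_iff.mp hy g]
    · rw [map_mul, map_mul, MulEquiv.apply_symm_apply, h]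

/-- The family. -/
def pair (p : ℕ) : Set (∀ (Q : Type u) [Group Q], Subgroup Q) := {cfun, bfun p}

end Cfsg.Agent.PFocalThree
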