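import Cfsg.Agent.Lib.PFocalThree.AllGood
import Cfsg.Agent.Lib.PFocalThree.Descent
import Cfsg.Agent.Lib.PushingUp2.Cases

/-!
# One subgroup for all hard rank-one groups over a `p`-group

* `mclCommutator_normal`: `[R, R]` is normal for a minimal centrally large `R`
* `exists_universal_member`: the residual case
* `exists_universal_hard`: a nontrivial characteristic subgroup of `B` normal in every rank-one group over `B` in
  which `Z(B)` is not normal and some element of `B` is not quadratic
-/

set_option autoImplicit false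

namespace Cfsg.Agent.PFocalThree

open Subgroup PushingUp
open PU2 (Emb Residual)
open scoped commutatorElement

universe u

/-- `[R, R]` is normal for a minimal centrally large `R`. -/
theorem mclCommutator_normal {G : Type u} [Group G] [Finite G] {p : ℕ} [Fact p.Prime] {S : Sylow p G}
    {M : Subgroup G} (h : Hyp p S M) (hA : Act p S M (vQ p G)) (hV : centralizer (vQ p G : Set G) ≤ M)
    {R : Subgroup ↥(S : Subgroup G)} (hR : IsMinimalCentrallyLarge R) :
    ((⁅R, R⁆).map (S : Subgroup G).subtype).Normal := by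
  obtain ⟨R₁, hR₁Q, hR₁⟩ := h.exists_min_le hA hV
  have hD : ∀ Y : Subgroup ↥(S : Subgroup G), IsMinimalCentrallyLarge Y → ⁅R, R⁆ = ⁅Y, Y⁆ :=
    fun Y hY => (S3007.result _ S.2 R Y hR hY).2.1
  have e : ⁅R, R⁆ = ⨆ Y ∈ {Y : Subgroup ↥(S : Subgroup G) | IsMinimalCentrallyLarge Y ∧ Y ≤ qS S},
      ⁅Y, Y⁆ := le_antisymm ((hD R₁ hR₁).le.trans (le_iSup₂_of_le R₁ ⟨hR₁, hR₁Q⟩ le_rfl))
    (iSup₂_le fun Y hY => (hD Y hY.1).ge)
  rw [e]
  exact normal_join _ (fun Y hY => hY.2) (fun R₀ f f' hf hf' _ hr hR₀ =>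
    show IsMinimalCentrallyLarge _ ∧ _ ≤ qS S from
      ⟨isMinimalCentrallyLarge_map hf hf' hR₀.1, (map_le_range _ _).trans hr⟩)
    (fun Y => ⁅Y, Y⁆) (fun Y => ⁅Y, Y⁆) (fun R₀ f _ => (Subgroup.map_commutator _ _ f).symm)

/-- A characteristic subgroup of a characteristic subgroup is characteristic. -/
theorem characteristic_map_subtype' {G : Type u} [Group G] {H : Subgroup G} (hH : H.Characteristic)
    {K : Subgroup ↥H} (hK : K.Characteristic) : (K.map H.subtype).Characteristic := by
  refine characteristic_iff_map_le.mpr fun φ => ?_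
  have hφ := characteristic_iff_map_eq.mp hH φ
  rintro _ ⟨_, ⟨k, hk, rfl⟩, rfl⟩
  exact ⟨_, (characteristic_iff_map_eq.mp hK ((φ.subgroupMap H).trans (MulEquiv.subgroupCongr hφ))).le
    ⟨k, hk, rfl⟩, rfl⟩

variable {p : ℕ} [Fact p.Prime]

theorem exists_universal_member {S : Type u} [Group S] [Finite S] (hR : Residual p S) :
    ∃ K : Subgroup S, K.Characteristic ∧ Subgroup.center S ≤ K ∧
      ∀ E : Emb p (Subgroup.center S), Hard p (E.P : Subgroup E.G) → (K.map E.τ).Normal := by
  obtain ⟨K, h1, -, h3, h4⟩ := PU2.exists_universal_of hR (T := Subgroup.center S) le_rfl inferInstance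
    (fun G _ _ P => Hard p (P : Subgroup G))
    (fun C Sg F hsrc hC => all_good_of_hard F hsrc fun i hq => by
      obtain ⟨E, φ, hφ, hard, eC⟩ := hC i
      refine hard fun u hu => (quadOn_map_iff hφ).mp ?_
      rw [eC] at hq
      exact hq (φ u) (mem_map_of_mem φ hu))
  exact ⟨K, h1, h3, h4⟩

/-- The induction hypothesis for the groups over a subgroup. -/
abbrev Universal (p : ℕ) [Fact p.Prime] (B : Type u) [Group B] [Finite B] (K : Subgroup B) : Prop :=
  K ≠ ⊥ ∧ K.Characteristic ∧
    ∀ E : Emb p (Subgroup.center B), Hard p (E.P : Subgroup E.G) → (K.map E.τ).Normal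

section

set_option linter.unusedSectionVars false

variable {B : Type u} [Group B] [Finite B] (E : Emb p (Subgroup.center B))

theorem not_normal_center :
    ¬ ((E.P : Subgroup E.G) ⊓ centralizer ((E.P : Subgroup E.G) : Set E.G)).Normal := by
  rw [← PU2.map_center_eq E.τ E.inj E.eP]
  exact E.moved

theorem map_normal_le_normalizer {K : Subgroup B} (hK : K.Normal) :
    (E.P : Subgroup E.G) ≤ normalizer (K.map E.τ : Set E.G) := by
  rw [E.eP, MonoidHom.range_eq_map]
  exact (map_mono (normalizer_eq_top_iff.mpr hK).ge).trans (le_normalizer_map E.τ)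

/-- Descent to `C_B(Z(J(B)))`. -/
theorem normal_of_jt {K : Subgroup ↥(PU2.jt B)} (hK : Universal p ↥(PU2.jt B) K)
    (hard : Hard p (E.P : Subgroup E.G)) :
    (((K.map (PU2.jt B).subtype)).map E.τ).Normal := by
  have hjc := PU2.char_jt (S := B)
  have hKc : (K.map (PU2.jt B).subtype).Characteristic := characteristic_map_subtype' hjc hK.2.1
  set f := E.τ.comp (PU2.jt B).subtype
  have hf : Function.Injective f := E.inj.comp (PU2.jt B).subtype_injective
  have hfr : f.range = (PU2.jt B).map E.τ := by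
    rw [MonoidHom.range_eq_map, ← Subgroup.map_map, ← MonoidHom.range_eq_map, range_subtype]
  rw [Subgroup.map_map]
  by_cases hTn : ((PU2.jt B).map E.τ).Normal
  · refine normalizer_eq_top_iff.mp (top_le_iff.mp fun g _ => ?_)
    let φ : ↥f.range ≃* ↥f.range := (MulAut.conjNormal (H := (PU2.jt B).map E.τ) g) |>
      fun c => ((MulEquiv.subgroupCongr hfr).trans c).trans (MulEquiv.subgroupCongr hfr.symm)
    set e := MonoidHom.ofInjective hf
    refine PGroup.mem_normalizer_of_map_conj_eq ?_
    have h1 := characteristic_iff_map_eq.mp hK.2.1 ((e.trans φ).trans e.symm)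
    conv_rhs => rw [← h1]
    rw [Subgroup.map_map, Subgroup.map_map]
    congr 1
    ext x
    show g * f x * g⁻¹ = f (e.symm (φ (e x)))
    rw [MonoidHom.apply_ofInjective_symm hf]
    rfl
  obtain ⟨H, P₁, M₁, hTH, htop, hP₁, hyp₁, hz₁, hard₁⟩ := exists_over_centralizer E.hyp
    (not_normal_center E) hard (PU2.map_jt E.τ E.inj E.eP).symm hTn
  have hfH : ∀ x, f x ∈ H := fun x => hTH (hfr.le ⟨x, rfl⟩)
  set f₁ := f.codRestrict H hfH
  have hf₁ : Function.Injective f₁ := fun x y e => hf (congrArg Subtype.val e)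
  have heP : (P₁ : Subgroup ↥H) = f₁.range := by
    rw [hP₁]
    ext x
    rw [mem_subgroupOf, ← hfr]
    exact ⟨fun ⟨y, hy⟩ => ⟨y, Subtype.ext hy⟩, fun ⟨y, hy⟩ => ⟨y, congrArg Subtype.val hy⟩⟩
  have hn := hK.2.2 { G := ↥H, τ := f₁, inj := hf₁, P := P₁, eP := heP, M := M₁, hyp := hyp₁
                      moved := by rwa [PU2.map_center_eq f₁ hf₁ heP] } hard₁
  refine normalizer_eq_top_iff.mp (top_le_iff.mp (htop.ge.trans (sup_le ?_ ?_)))
  · have h1 := (Subgroup.map_mono (f := H.subtype) (normalizer_eq_top_iff.mpr hn).ge).trans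
      (le_normalizer_map _)
    rwa [← MonoidHom.range_eq_map, range_subtype, Subgroup.map_map] at h1
  · rw [← Subgroup.map_map]
    exact map_normal_le_normalizer E inferInstance

end

/-- A nontrivial characteristic subgroup normal in every hard rank-one group over `B`. -/
theorem exists_universal_hard : ∀ (n : ℕ) (B : Type u) [Group B] [Finite B] [Nontrivial B],
    Nat.card B ≤ n → IsPGroup p B → ∃ K : Subgroup B, Universal p B K := by
  intro n
  induction n with
  | zero =>
    intro B _ _ _ hn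
    exact absurd hn (Nat.not_le.mpr Nat.card_pos)
  | succ n ih =>
    intro B _ _ _ hn hB
    by_cases hj : PU2.jt B = ⊤
    swap
    · have hne : PU2.jt B ≠ ⊥ := PU2.ne_bot_of_center_le hB (Subgroup.center_le_centralizer _)
      have : Nontrivial ↥(PU2.jt B) := (Subgroup.nontrivial_iff_ne_bot _).mpr hne
      have hlt : Nat.card ↥(PU2.jt B) < Nat.card B :=
        lt_of_le_of_ne (Subgroup.card_le_card_group _) fun e => hj (Subgroup.eq_top_of_card_eq _ e)
      obtain ⟨K, hK⟩ := ih ↥(PU2.jt B) (by omega) (hB.to_subgroup _)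
      exact ⟨K.map (PU2.jt B).subtype,
        fun e => hK.1 ((map_eq_bot_iff_of_injective _ (PU2.jt B).subtype_injective).mp e),
        characteristic_map_subtype' PU2.char_jt hK.2.1, fun E hard => normal_of_jt E hK hard⟩
    obtain ⟨Q₀, hQ₀⟩ := CLarge.exists_isCentrallyLarge (G := B)
    obtain ⟨Q, -, hQ⟩ := CLarge.exists_isMinimalCentrallyLarge_le hQ₀
    have hact := fun E : Emb p (Subgroup.center B) =>
      E.hyp.act_of_not_normal (not_normal_center E) (PU2.le_centralizer_thompson E.τ E.inj E.eP hj)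
    by_cases h1 : ⁅Q, Q⁆ = ⊥
    swap
    · refine ⟨⁅Q, Q⁆, h1, PushingUp.commutator_map_equiv hB hQ, fun E _ => ?_⟩
      obtain ⟨e, he⟩ := PU2.exists_equiv E.τ E.inj E.eP
      have h2 := mclCommutator_normal E.hyp (hact E).1 (hact E).2 (PU2.mcl_iso e hQ)
      rwa [← Subgroup.map_commutator, he] at h2
    by_cases h2 : frattiniOfMinimalCLJoin p B = ⊥
    swap
    · refine ⟨_, h2, characteristic_iff_map_eq.mpr (PU2.map_frattiniJoin hB), fun E _ => ?_⟩
      obtain ⟨e, he⟩ := PU2.exists_equiv E.τ E.inj E.eP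
      have h3 := E.hyp.frattiniJoin_normal (hact E).1 (hact E).2
      rwa [← PU2.map_frattiniJoin hB e, he] at h3
    obtain ⟨A, hA, hAe⟩ := PU2.exists_elementary hB h2
    have hZ : IsElementaryAbelian p (Subgroup.center B) := PGroup.isElementaryAbelian_mono hAe
      ((Subgroup.center_le_centralizer _).trans (CLarge.centralizer_eq_of_mem_maxAbelian hA).le)
    obtain ⟨K, hK, hZK, hn⟩ := exists_universal_member (PU2.residual_of hB hj hZ hQ h1)
    exact ⟨K, PU2.ne_bot_of_center_le hB hZK, hK, hn⟩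

end Cfsg.Agent.PFocalThree
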