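import Cfsg.Agent.Lib.PCore.Basic
import Cfsg.Agent.Lib.PGroup.ElementaryAbelian
import Cfsg.Prelude.Def_BaumannBlocks
import Mathlib

/-!
# A noncentral `Z(S)` has a noncentral element of order `p`

* `omega_not_normal`: the product of the conjugates over `G / S` splits off the central part of `Z(S)`
-/

set_option autoImplicit false

namespace Cfsg.Agent.PFocalThree

open Subgroup

universe u

variable {G : Type u} [Group G] [Finite G] {p : ℕ} [Fact p.Prime]

/-- If `Z(S)` is not normal, then `Ω₁(Z(S))` is not normal, when `S` lies in no proper normal subgroup. -/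
theorem omega_not_normal (hcent : centralizer (Cfsg.pCore p G : Set G) ≤ Cfsg.pCore p G) (S : Sylow p G)
    (hgen : ∀ N : Subgroup G, N.Normal → (S : Subgroup G) ≤ N → N = ⊤)
    (hZ : ¬ ((S : Subgroup G) ⊓ centralizer ((S : Subgroup G) : Set G)).Normal) :
    ¬ (Cfsg.omegaOneCenter p (S : Subgroup G)).Normal := by
  classical
  intro hn
  set Zs := (S : Subgroup G) ⊓ centralizer ((S : Subgroup G) : Set G) with hZs
  have hω : ∀ z ∈ Zs, z ^ p = 1 → z ∈ Subgroup.center G := by
    intro z hz hzp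
    have hz' : z ∈ Cfsg.omegaOneCenter p (S : Subgroup G) := PGroup.mem_omegaOne_of_pow_eq_one hz hzp
    have htop := hgen _ (Subgroup.normal_centralizer (H := Cfsg.omegaOneCenter p (S : Subgroup G)))
      (le_centralizer_iff.mp ((PGroup.omegaOne_le _).trans inf_le_right))
    exact Subgroup.mem_center_iff.mpr fun g => ((htop.ge (mem_top g)) z hz').symm
  set Q := Cfsg.pCore p G
  set A := Q ⊓ centralizer (Q : Set G)
  have hZA : Zs ≤ A := fun z hz => by
    have hzc : z ∈ centralizer (Q : Set G) := fun q hq => hz.2 q (PCore.pCore_le_sylow S hq)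
    exact ⟨hcent hzc, hzc⟩
  have hQn : Q.Normal := PCore.pCore_normal
  have hAn : A.Normal := inferInstance
  letI : CommGroup ↥A := { (inferInstance : Group ↥A) with
    mul_comm := fun a b => Subtype.ext (b.2.2 a a.2.1) }
  let T : Type u := G ⧸ (S : Subgroup G)
  haveI : Fintype T := Fintype.ofFinite T
  let F : T → ↥Zs →* ↥A := fun q => (MulAut.conjNormal (H := A) q.out).toMonoidHom.comp (Subgroup.inclusion hZA)
  let f : ↥Zs →* ↥A := ∏ q : T, F q
  have hf : ∀ z : ↥Zs, f z = ∏ q : T, F q z := fun z => by simp [f]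
  -- values are central
  have hfc : ∀ z : ↥Zs, ((f z : ↥A) : G) ∈ Subgroup.center G := by
    intro z
    refine Subgroup.mem_center_iff.mpr fun g => ?_
    have key : MulAut.conjNormal (H := A) g (f z) = f z := by
      rw [hf, map_prod]
      refine Fintype.prod_equiv (MulAction.toPerm g) _ _ fun q => Subtype.ext ?_
      show g * (q.out * (z : G) * q.out⁻¹) * g⁻¹ = (g • q).out * (z : G) * (g • q).out⁻¹
      obtain ⟨s, hs⟩ : ∃ s : ↥(S : Subgroup G), g * q.out = (g • q).out * s := by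
        refine ⟨⟨(g • q).out⁻¹ * (g * q.out), QuotientGroup.eq.mp ?_⟩, by simp⟩
        rw [QuotientGroup.out_eq']
        conv_lhs => rw [← QuotientGroup.out_eq' q]
        rfl
      calc g * (q.out * (z : G) * q.out⁻¹) * g⁻¹ = (g * q.out) * z * (g * q.out)⁻¹ := by group
        _ = (g • q).out * ((s : G) * z) * (s : G)⁻¹ * (g • q).out⁻¹ := by rw [hs]; group
        _ = (g • q).out * ((z : G) * s) * (s : G)⁻¹ * (g • q).out⁻¹ := by rw [z.2.2 s s.2]
        _ = _ := by group
    have := congrArg Subtype.val key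
    rwa [MulAut.conjNormal_apply, mul_inv_eq_iff_eq_mul] at this
  set n := Nat.card T
  have hcop : ∀ z : ↥Zs, (orderOf (z : G)).Coprime n := by
    intro z
    obtain ⟨k, hk⟩ := IsPGroup.iff_orderOf.mp S.2 ⟨z, z.2.1⟩
    rw [Subgroup.orderOf_mk] at hk
    rw [hk]
    exact Nat.Coprime.pow_left k ((Fact.out : p.Prime).coprime_iff_not_dvd.mpr S.not_dvd_index)
  have hfcen : ∀ z : ↥Zs, (z : G) ∈ Subgroup.center G → ((f z : ↥A) : G) = (z : G) ^ n := by
    intro z hz
    have h1 : ∀ q : T, F q z = Subgroup.inclusion hZA z := fun q => Subtype.ext (by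
      show q.out * (z : G) * q.out⁻¹ = z
      rw [Subgroup.mem_center_iff.mp hz q.out, mul_inv_cancel_right])
    rw [hf, Finset.prod_congr rfl fun q _ => h1 q, Finset.prod_const, Finset.card_univ]
    simp [n, Nat.card_eq_fintype_card]
  have hcenpow : ∀ z : ↥Zs, (z : G) ^ n ∈ Subgroup.center G → (z : G) ∈ Subgroup.center G := by
    intro z hz
    obtain ⟨m, hm⟩ := exists_pow_eq_self_of_coprime (hcop z).symm
    exact hm ▸ pow_mem hz m
  obtain ⟨z, hz, hzc⟩ : ∃ z ∈ Zs, z ∉ Subgroup.center G := by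
    by_contra hc
    push Not at hc
    exact hZ ⟨fun x hx g => by rwa [Subgroup.mem_center_iff.mp (hc x hx) g, mul_inv_cancel_right]⟩
  let z' : ↥Zs := ⟨z, hz⟩
  have hfz : ((f z' : ↥A) : G) ∈ Zs :=
    ⟨PCore.pCore_le_sylow S (f z').2.1, fun s _ => Subgroup.mem_center_iff.mp (hfc z') s⟩
  set w : ↥Zs := z' ^ n * (⟨_, hfz⟩)⁻¹
  have hfw : f w = 1 := by
    have h1 : f ⟨_, hfz⟩ = f z' ^ n := Subtype.ext (by rw [hfcen _ (hfc z')]; simp)
    rw [map_mul, map_inv, map_pow, h1, mul_inv_cancel]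
  have hw1 : (w : G) ≠ 1 := fun e => hzc (hcenpow z' (by
    have h1 : (z : G) ^ n = ((f z' : ↥A) : G) := mul_inv_eq_one.mp (by simpa [w, z'] using e)
    show (z : G) ^ n ∈ _
    exact h1 ▸ hfc z'))
  obtain ⟨k, hk⟩ := IsPGroup.iff_orderOf.mp S.2 ⟨w, w.2.1⟩
  rw [Subgroup.orderOf_mk] at hk
  obtain ⟨j, rfl⟩ : ∃ j, k = j + 1 := ⟨k - 1, by
    rcases k with - | k
    · exact absurd (orderOf_eq_one_iff.mp (by simpa using hk)) hw1
    · rfl⟩
  set v : ↥Zs := w ^ p ^ j
  have hvp : (v : G) ^ p = 1 := by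
    rw [SubgroupClass.coe_pow, ← pow_mul, ← pow_succ, ← hk, pow_orderOf_eq_one]
  have hv1 : (v : G) ≠ 1 := by
    rw [SubgroupClass.coe_pow]
    exact pow_ne_one_of_lt_orderOf (pow_ne_zero _ (Fact.out : p.Prime).ne_zero)
      (hk ▸ Nat.pow_lt_pow_right (Fact.out : p.Prime).one_lt j.lt_succ_self)
  have hfv : ((f v : ↥A) : G) = 1 := by rw [map_pow, hfw, one_pow]; rfl
  rw [hfcen v (hω v v.2 hvp)] at hfv
  exact hv1 (orderOf_eq_one_iff.mp (Nat.Coprime.eq_one_of_dvd (hcop v) (orderOf_dvd_of_pow_eq_one hfv)))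

end Cfsg.Agent.PFocalThree
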