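import Cfsg.Agent.Lib.PFocalThree.Functor
import Cfsg.Agent.Lib.PFocalThree.Omega
import Cfsg.Agent.Lib.GlaubermanTransfer.Main
import Cfsg.Agent.Lib.PMinFF.Assembly

/-!
# Transfer is controlled by `Z(S)` and one further subgroup, `p` odd

* `thompson_not_normal`: `J(S)` is not normal when `Z(S)` and `bfun p S` are not
* `quadLocal`: the rank-one groups over `B(S)` are not hard
* `controls_pair`
-/

set_option autoImplicit false

namespace Cfsg.Agent.PFocalThree

open Subgroup
open GlaubermanTransfer (Ctx QuadLocal map_baumann_subtype)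
open scoped commutatorElement

universe u

variable {G : Type u} [Group G] [Finite G] {p : ℕ} [Fact p.Prime] {S : Sylow p G} {M : Subgroup G}

/-- `bfun p S` inside `G`. -/
abbrev bImage (p : ℕ) (S : Subgroup G) : Subgroup G := (bfun p ↥S).map S.subtype

omit [Finite G] [Fact p.Prime] in
theorem normalizer_le_normalizer_bImage (S : Subgroup G) :
    normalizer (S : Set G) ≤ normalizer (bImage p S : Set G) := by
  intro g hg
  refine PGroup.mem_normalizer_of_map_conj_eq ?_
  have h1 := map_bfun (p := p) (S.normalizerMonoidHom ⟨g, hg⟩)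
  conv_rhs => rw [bImage, ← h1]
  simp only [bImage, Subgroup.map_map]
  congr 1

omit [Finite G] [Fact p.Prime] in
theorem bImage_eq (S : Subgroup G) : ∃ e : ↥(baumannSubgroupOf p (⊤ : Subgroup ↥S)) ≃* ↥(baumannSubgroupOf p S),
    (∀ x, ((e x : ↥(baumannSubgroupOf p S)) : G) = ((x : ↥S) : G)) ∧
    ((univ p ↥(baumannSubgroupOf p S)).map (baumannSubgroupOf p S).subtype) = bImage p S := by
  refine ⟨((baumannSubgroupOf p (⊤ : Subgroup ↥S)).equivMapOfInjective S.subtype S.subtype_injective).trans
    (MulEquiv.subgroupCongr (map_baumann_subtype S)), fun x => rfl, ?_⟩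
  rw [← map_univ (p := p) (((baumannSubgroupOf p (⊤ : Subgroup ↥S)).equivMapOfInjective S.subtype
    S.subtype_injective).trans (MulEquiv.subgroupCongr (map_baumann_subtype S))), bImage, bfun,
    Subgroup.map_map, Subgroup.map_map]
  rfl

variable (hcent : centralizer (Cfsg.pCore p G : Set G) ≤ Cfsg.pCore p G) (hne : M ≠ ⊤)
  (hmax : ∀ H : Subgroup G, (S : Subgroup G) ≤ H → H ≠ ⊤ → H ≤ M)
  (hZ : ¬ ((S : Subgroup G) ⊓ centralizer ((S : Subgroup G) : Set G)).Normal)
  (hK : ¬ (bImage p (S : Subgroup G)).Normal)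

include hne hmax hZ in
theorem eq_top_of_normal (N : Subgroup G) (hN : N.Normal) (hSN : (S : Subgroup G) ≤ N) : N = ⊤ := by
  by_contra hc
  have hle : (S : Subgroup G) ≤ Cfsg.pCore p G :=
    (le_inf le_rfl hSN).trans (PushingUp.inf_le_pCore_of_uniq hne hmax (hN := hN) (hmax N hSN hc))
  have hSn : (S : Subgroup G).Normal := by
    rw [le_antisymm hle (PCore.pCore_le_sylow S)]
    exact PCore.pCore_normal
  exact hZ inferInstance

include hcent hne hmax hZ hK in
theorem thompson_not_normal : ¬ (thompsonSubgroupOf p (S : Subgroup G)).Normal := by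
  intro hJ
  set Y := omegaOne p (centerThompsonOf p (S : Subgroup G))
  have hYn : Y.Normal := by
    haveI := hJ
    haveI : (centerThompsonOf p (S : Subgroup G)).Normal :=
      Subgroup.normal_inf_normal _ (centralizer (thompsonSubgroupOf p (S : Subgroup G) : Set G))
    exact PGroup.omegaOne_normal _
  haveI := hYn
  haveI : (centralizer (Y : Set G)).Normal := Subgroup.normal_centralizer
  by_cases hC : centralizer (Y : Set G) ≤ M
  · have hB : (baumannSubgroupOf p (S : Subgroup G)).Normal := by
      rw [baumannSubgroupOf, show (S : Subgroup G) ⊓ centralizer (Y : Set G) =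
        Cfsg.pCore p G ⊓ centralizer (Y : Set G) from le_antisymm
          (le_inf (PushingUp.inf_le_pCore_of_uniq hne hmax hC) inf_le_right)
          (inf_le_inf_right _ (PCore.pCore_le_sylow S))]
      infer_instance
    obtain ⟨e, -, he⟩ := bImage_eq (p := p) (S : Subgroup G)
    haveI := univ_characteristic (p := p) (B := ↥(baumannSubgroupOf p (S : Subgroup G)))
    haveI := hB
    exact hK (he ▸ inferInstance)
  refine omega_not_normal hcent S (eq_top_of_normal hne hmax hZ) hZ (PushingUp.normal_of_le_center fun z hz => ?_)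
  have htop : centralizer (Y : Set G) ⊔ (S : Subgroup G) = ⊤ := by
    by_contra hc
    exact hC (le_sup_left.trans (hmax _ le_sup_right hc))
  have hz' : z ∈ (S : Subgroup G) ⊓ centralizer ((S : Subgroup G) : Set G) := PGroup.omegaOne_le _ hz
  have hzp : z ^ p = 1 := (PGroup.isElementaryAbelian_omegaOne (p := p)
    (PGroup.isMulCommutative_of_forall fun _ ha _ hb => (ha.2 _ hb.1).symm)).2 z hz
  have hle : centralizer (Y : Set G) ⊔ (S : Subgroup G) ≤ centralizer ({z} : Set G) := sup_le
    (centralizer_le (Set.singleton_subset_iff.mpr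
      (PFocal.mem_wJ_of_central hz'.1 (fun s hs => hz'.2 s hs) hzp)))
    fun s hs => by rw [mem_centralizer_iff]; rintro _ rfl; exact (hz'.2 s hs).symm
  exact Subgroup.mem_center_iff.mpr fun g => ((hle (htop.ge (mem_top g))) z rfl).symm

include hZ hK in
/-- The rank-one groups over `B(S)` are not hard. -/
theorem quadLocal : QuadLocal p S := by
  intro L BL M' hyp hBLm hLS U W hch hU u hu x hx
  set B := baumannSubgroupOf p (S : Subgroup G)
  have hBL : B ≤ L := hBLm ▸ map_subtype_le _
  have heP : (BL : Subgroup ↥L) = (Subgroup.inclusion hBL).range := by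
    refine map_injective L.subtype_injective ?_
    rw [hBLm, MonoidHom.map_range, subtype_comp_inclusion, range_subtype]
  have hinj : Function.Injective (Subgroup.inclusion hBL) := Subgroup.inclusion_injective hBL
  have hzc : ¬ ((Subgroup.center ↥B).map (Subgroup.inclusion hBL)).Normal := by
    intro hn
    rw [PU2.map_center_eq _ hinj heP] at hn
    refine hZ (PushingUp.normal_of_le_center fun z hz => ?_)
    have hzB : z ∈ B := ⟨hz.1, fun y hy => hz.2 y (inf_le_left.trans (PGroup.thompsonSubgroupOf_le _)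
      (PGroup.omegaOne_le _ hy))⟩
    have h1 := hyp.center_of_normal hn (show (⟨z, hBL hzB⟩ : ↥L) ∈
        (BL : Subgroup ↥L) ⊓ centralizer ((BL : Subgroup ↥L) : Set ↥L) from by
      refine ⟨(Subgroup.mem_map_iff_mem L.subtype_injective).mp (hBLm.ge hzB), fun s hs => Subtype.ext ?_⟩
      exact hz.2 _ (hBLm.le (mem_map_of_mem L.subtype hs)).1)
    have hle : L ⊔ (S : Subgroup G) ≤ centralizer ({z} : Set G) := by
      refine sup_le (fun g hg => ?_) fun s hs => ?_
      · rw [mem_centralizer_iff]; rintro _ rfl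
        exact (congrArg Subtype.val (Subgroup.mem_center_iff.mp h1 ⟨g, hg⟩)).symm
      · rw [mem_centralizer_iff]; rintro _ rfl
        exact (hz.2 s hs).symm
    exact Subgroup.mem_center_iff.mpr fun g => ((hle (hLS.ge (mem_top g))) z rfl).symm
  by_cases hard : Hard p (BL : Subgroup ↥L)
  · exfalso
    have hn := univ_normal { G := ↥L, τ := Subgroup.inclusion hBL, inj := hinj, P := BL, eP := heP,
                             M := M', hyp := hyp, moved := hzc } hard
    obtain ⟨e, -, he⟩ := bImage_eq (p := p) (S : Subgroup G)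
    refine hK (normalizer_eq_top_iff.mp (top_le_iff.mp (hLS.ge.trans (sup_le ?_
      (Subgroup.le_normalizer.trans (normalizer_le_normalizer_bImage _))))))
    have h1 := (Subgroup.map_mono (f := L.subtype) (normalizer_eq_top_iff.mpr hn).ge).trans
      (le_normalizer_map _)
    rwa [← MonoidHom.range_eq_map, range_subtype, Subgroup.map_map, subtype_comp_inclusion, he] at h1
  · have hq := not_not.mp hard u hu
    refine hq U W (normalizer_eq_top_iff.mpr hch.2.1).ge (normalizer_eq_top_iff.mpr hch.2.2.1).ge hch.1 hU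
      (fun K hK hWK hKU => hch.2.2.2 K (normalizer_eq_top_iff.mp (top_le_iff.mp hK)) hWK hKU)
      x hx u (mem_zpowers u) u (mem_zpowers u)

/-- `Z(S)` and `bfun p S` control transfer. -/
theorem controls_pair (hp : p ≠ 2) {G : Type u} [Group G] [Finite G] :
    ConjFun.Controls p (pair.{u} p) G := by
  have h𝓦 : ∀ W ∈ pair.{u} p, Cfsg.IsCharPFunctor.{u} p W := by
    intro W hW
    rcases hW with rfl | rfl
    exacts [cfun_isCharPFunctor, bfun_isCharPFunctor]
  have hne : (pair.{u} p).Nonempty := ⟨cfun, Or.inl rfl⟩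
  refine ConjFun.controls_of_sections h𝓦 ?_ G (ConjFun.involves_refl G)
  intro K R _ IH hcent S
  by_contra hfail
  obtain ⟨hMtop, hmax, hQM, hMD, hNSM, -⟩ := ConjFun.failure_structure h𝓦 hne IH S hfail
  obtain ⟨U, V, hUV, hUQ, hVD, hUD⟩ := ConjFun.exists_chief_below _ _ hfail
  have hZ : ¬ ((S : Subgroup (↥K ⧸ R.subgroupOf K)) ⊓
      centralizer ((S : Subgroup (↥K ⧸ R.subgroupOf K)) : Set (↥K ⧸ R.subgroupOf K))).Normal := fun hn => by
    refine hfail (ConjFun.pCore_inf_commutator_le_of_normal h𝓦 (W := cfun) (Or.inl rfl) S ?_)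
    show ((Subgroup.center _).map (Subgroup.subtype _)).Normal
    rwa [PU2.center_map _ (Subgroup.subtype_injective _), range_subtype]
  have hK : ¬ (bImage p (S : Subgroup (↥K ⧸ R.subgroupOf K))).Normal := fun hn =>
    hfail (ConjFun.pCore_inf_commutator_le_of_normal h𝓦 (W := bfun p) (Or.inr rfl) S hn)
  have hctx : Ctx p S _ :=
    { cent := hcent
      ne_top := hMtop
      SM := Subgroup.le_normalizer.trans hNSM
      uniq := hmax
      not_normal := fun hn => hMtop (top_le_iff.mp ((normalizer_eq_top_iff.mpr hn).ge.trans hNSM))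
      omega := omega_not_normal hcent S (eq_top_of_normal hMtop hmax hZ) hZ
      thompson := thompson_not_normal hcent hMtop hmax hZ hK }
  obtain ⟨r, K', F, _, _, ⟨d⟩⟩ := GlaubermanTransfer.hasData_of_hasDecomp hp (PMinFF.hasDecomp p) _
    hctx.isPMinimal hcent S hctx.cStarStar_ne_top
  obtain ⟨u, huS, huQ, hu⟩ := GlaubermanTransfer.exists_engel hctx d hp (quadLocal hZ hK)
  refine ConjFun.not_engel_factor h𝓦 hne IH S hfail hUV hUQ hVD hUD huS huQ
    (hu U V hUV (hUQ.trans inf_le_left) ?_)
  set C := centralizer (GlaubermanTransfer.zQ p (↥K ⧸ R.subgroupOf K) : Set (↥K ⧸ R.subgroupOf K))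
  have := hUV.2.1
  have := hUV.2.2.1
  haveI : C.Normal := Subgroup.normal_centralizer
  have hUN : ⁅U, C⁆ ≤ U := Subgroup.commutator_le_left U C
  have hUND : ⁅U, C⁆ ≤ ConjFun.transferGen (ConjFun.inducedFamily (pair p) _) (S : Subgroup _) :=
    (((Subgroup.commutator_mono (hUQ.trans inf_le_left) hctx.centralizer_le).trans hQM).trans hMD).trans
      inf_le_right
  rcases hUV.2.2.2 (⁅U, C⁆ ⊔ V) inferInstance le_sup_right (sup_le hUN hUV.1.le) with h | h
  · exact le_sup_left.trans h.le
  · exact absurd (h.ge.trans (sup_le hUND hVD)) hUD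

end Cfsg.Agent.PFocalThree
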