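import Cfsg.Agent.Lib.PFocalThree.Main
import Mathlib

/-!
# The product form

* `focal_split`: `P ∩ G' = (P ∩ C')(P ∩ N(P)')` for a normal `C ≥ P`
* `mem_product_iff`: transfer control by `Z(P)` and `bfun p P` as a product of two subgroups
-/

set_option autoImplicit false

namespace Cfsg.Agent.PFocalThree

open Subgroup
open scoped commutatorElement

universe u

variable {G : Type u} [Group G] [Finite G] {p : ℕ} [Fact p.Prime]

/-- The focal subgroup over a normal subgroup containing the Sylow subgroup. -/
theorem focal_split (P : Sylow p G) {C : Subgroup G} [C.Normal] (hPC : (P : Subgroup G) ≤ C) :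
    (P : Subgroup G) ⊓ commutator G ≤ ((P : Subgroup G) ⊓ ⁅C, C⁆) ⊔
      ((P : Subgroup G) ⊓ ⁅normalizer ((P : Subgroup G) : Set G), normalizer ((P : Subgroup G) : Set G)⁆) := by
  rw [inf_comm, Subgroup.commutator_inf_eq_focalSubgroup, Subgroup.focalSubgroup_def, closure_le]
  rintro _ ⟨hg, x, hx, u, rfl⟩
  obtain ⟨c, hc, l, hl, rfl⟩ := Subgroup.mem_sup_of_normal_left.mp
    ((sup_comm C _).trans (Sylow.normalizer_sup_eq_top' P hPC) ▸ mem_top u)
  set y := l * x * l⁻¹ with hy
  have hyP : y ∈ (P : Subgroup G) := (mem_normalizer_iff.mp hl x).mp hx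
  have hconj : c * y * c⁻¹ ∈ (P : Subgroup G) := by
    rw [show c * y * c⁻¹ = ⁅x, c * l⁆⁻¹ * x by simp only [y, commutatorElement_def]; group]
    exact mul_mem (inv_mem hg) hx
  rw [SetLike.mem_coe, ← commutatorElement_inv, show ⁅c * l, x⁆ = ⁅c, y⁆ * ⁅l, x⁆ by
    simp only [y, commutatorElement_def]; group]
  refine inv_mem (mul_mem (mem_sup_left ⟨?_, commutator_mem_commutator hc (hPC hyP)⟩)
    (mem_sup_right ⟨?_, commutator_mem_commutator hl (Subgroup.le_normalizer hx)⟩))
  · show ⁅c, y⁆ ∈ (P : Subgroup G)
    rw [commutatorElement_def]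
    exact mul_mem hconj (inv_mem hyP)
  · show ⁅l, x⁆ ∈ (P : Subgroup G)
    rw [commutatorElement_def]
    exact mul_mem hyP (inv_mem hx)

/-- `P ∩ G'` as a product. -/
theorem mem_product_iff (hp : p ≠ 2) (P : Sylow p G) (g : G) :
    g ∈ (P : Subgroup G) ⊓ commutator G ↔
      ∃ a ∈ (P : Subgroup G) ⊓
        ⁅centralizer (((P : Subgroup G) ⊓ centralizer ((P : Subgroup G) : Set G) : Subgroup G) : Set G),
          centralizer (((P : Subgroup G) ⊓ centralizer ((P : Subgroup G) : Set G) : Subgroup G) : Set G)⁆,
      ∃ b ∈ (P : Subgroup G) ⊓ ⁅normalizer (bImage p (P : Subgroup G) : Set G),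
          normalizer (bImage p (P : Subgroup G) : Set G)⁆, g = a * b := by
  set Z := (P : Subgroup G) ⊓ centralizer ((P : Subgroup G) : Set G)
  set C := centralizer (Z : Set G)
  set N := normalizer (bImage p (P : Subgroup G) : Set G)
  set A := (P : Subgroup G) ⊓ ⁅C, C⁆
  set B := (P : Subgroup G) ⊓ ⁅N, N⁆
  have hPC : (P : Subgroup G) ≤ C := le_centralizer_iff.mp inf_le_right
  have hPN : (P : Subgroup G) ≤ N := Subgroup.le_normalizer.trans (normalizer_le_normalizer_bImage _)
  have hAB : A ≤ normalizer (B : Set G) := inf_le_left.trans (LocalStructure.le_normalizer_inf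
    Subgroup.le_normalizer (LocalStructure.le_normalizer_commutator
      (hPN.trans Subgroup.le_normalizer) (hPN.trans Subgroup.le_normalizer)))
  constructor
  · intro hg
    have h1 : (P : Subgroup G) ⊓ commutator G ≤ A ⊔ B := by
      refine (controls_pair (p := p) hp (G := G) P).trans ?_
      rw [ConjFun.transferGen_inducedFamily]
      refine iSup₂_le fun W hW => ?_
      rcases hW with rfl | rfl
      · have eZ : Cfsg.inducedFunctor (G := G) cfun (P : Subgroup G) = Z := by
          show (Subgroup.center _).map _ = _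
          rw [PU2.center_map _ (Subgroup.subtype_injective _), range_subtype]
          rfl
        rw [eZ]
        set X := normalizer (Z : Set G)
        have hPX : (P : Subgroup G) ≤ X := hPC.trans (centralizer_le_normalizer _)
        have hCX : C ≤ X := centralizer_le_normalizer _
        haveI : (C.subgroupOf X).Normal := (normal_subgroupOf_iff_le_normalizer hCX).mpr
          (LocalStructure.le_normalizer_centralizer le_rfl)
        intro x hx
        have hxX : x ∈ X := hPX hx.1
        have h2 : (⟨x, hxX⟩ : ↥X) ∈ (P.subtype hPX : Subgroup ↥X) ⊓ commutator ↥X := by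
          refine ⟨hx.1, (Subgroup.mem_map_iff_mem X.subtype_injective).mp ?_⟩
          rw [commutator_def, Subgroup.map_commutator, ← MonoidHom.range_eq_map, range_subtype]
          exact hx.2
        have h3 := mem_map_of_mem X.subtype (focal_split (P.subtype hPX) (C := C.subgroupOf X)
          (fun y hy => hPC hy) h2)
        rw [Subgroup.map_sup, Subgroup.map_inf _ _ _ X.subtype_injective,
          Subgroup.map_inf _ _ _ X.subtype_injective, Subgroup.map_commutator, Subgroup.map_commutator,
          Sylow.coe_subtype, map_subgroupOf_eq_of_le hPX, map_subgroupOf_eq_of_le hCX] at h3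
        refine (sup_le le_sup_left (le_trans (inf_le_inf_left (P : Subgroup G) ?_) le_sup_right) :
          _ ≤ A ⊔ B) h3
        have h4 : (normalizer (((P : Subgroup G).subgroupOf X : Subgroup ↥X) : Set ↥X)).map X.subtype ≤ N := by
          refine ((le_normalizer_map X.subtype).trans ?_).trans (normalizer_le_normalizer_bImage _)
          rw [map_subgroupOf_eq_of_le hPX]
        exact commutator_mono h4 h4
      · exact le_sup_right
    obtain ⟨a, ha, b, hb, e⟩ := (Coprime.mem_sup_iff_of_le_normalizer hAB).mp (h1 hg)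
    exact ⟨a, ha, b, hb, e.symm⟩
  · rintro ⟨a, ha, b, hb, rfl⟩
    exact ⟨mul_mem ha.1 hb.1, mul_mem (commutator_mono le_top le_top ha.2 : a ∈ ⁅(⊤ : Subgroup G), ⊤⁆)
      (commutator_mono le_top le_top hb.2)⟩

end Cfsg.Agent.PFocalThree
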